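import Mathlib.Algebra.DualNumber
import Mathlib.RingTheory.TensorProduct.Maps
import Mathlib.RingTheory.Nakayama
import Mathlib.RingTheory.Artinian.Module
import Mathlib.RingTheory.Jacobson.Radical
import Mathlib.FieldTheory.IsAlgClosed.Basic
import Mathlib.RingTheory.TensorProduct.Finite

/-!
# Dual numbers: tangent vectors and the infinitesimal commutator
-/

noncomputable section

set_option autoImplicit false
set_option linter.style.haveILetI false
set_option backward.isDefEq.respectTransparency false
set_option backward.isDefEq.respectTransparency.types false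

universe u v

open TensorProduct TrivSqZeroExt

namespace Groth.Agent.AVCentre

variable {k : Type u} [CommRing k] {D : Type v} [CommRing D] [Algebra k D]

/-- A pair of functionals on a tensor square. -/
def coef (i j : D →ₗ[k] k) : D ⊗[k] D →ₗ[k] k := (TensorProduct.lid k k).toLinearMap ∘ₗ TensorProduct.map i j

@[simp] theorem coef_tmul (i j : D →ₗ[k] k) (x y : D) : coef i j (x ⊗ₜ y) = i x * j y := by
  simp [coef]

/-- The projection to the first axis. -/
def ax₁ (ε : D →ₐ[k] k) : D ⊗[k] D →ₐ[k] D :=
  Algebra.TensorProduct.productMap (AlgHom.id k D) ((Algebra.ofId k D).comp ε)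

/-- The projection to the second axis. -/
def ax₂ (ε : D →ₐ[k] k) : D ⊗[k] D →ₐ[k] D :=
  Algebra.TensorProduct.productMap ((Algebra.ofId k D).comp ε) (AlgHom.id k D)

theorem coef_ax₁ (ε : D →ₐ[k] k) (i : D →ₗ[k] k) (z : D ⊗[k] D) : i (ax₁ ε z) = coef i ε.toLinearMap z := by
  induction z using TensorProduct.induction_on with
  | zero => simp
  | tmul x y =>
    rw [coef_tmul, ax₁, Algebra.TensorProduct.productMap_apply_tmul]
    show i (x * algebraMap k D (ε y)) = i x * ε y
    rw [← Algebra.commutes, ← Algebra.smul_def, map_smul, smul_eq_mul, mul_comm]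
  | add x y hx hy => simp only [map_add, hx, hy]

theorem coef_ax₂ (ε : D →ₐ[k] k) (i : D →ₗ[k] k) (z : D ⊗[k] D) : i (ax₂ ε z) = coef ε.toLinearMap i z := by
  induction z using TensorProduct.induction_on with
  | zero => simp
  | tmul x y =>
    rw [coef_tmul, ax₂, Algebra.TensorProduct.productMap_apply_tmul]
    show i (algebraMap k D (ε x) * y) = ε x * i y
    rw [← Algebra.smul_def, map_smul, smul_eq_mul]
  | add x y hx hy => simp only [map_add, hx, hy]

theorem coef_comm (i j : D →ₗ[k] k) (z : D ⊗[k] D) : coef i j (Algebra.TensorProduct.comm k D D z) = coef j i z := by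
  induction z using TensorProduct.induction_on with
  | zero => simp
  | tmul x y => simp [mul_comm]
  | add x y hx hy => simp only [map_add, hx, hy]

/-- **The commutator of a tangent vector with itself is trivial.** -/
theorem eq_one_of_swap (ε : D →ₐ[k] k) (c : D →ₗ[k] k) (e : D) (hdec : ∀ w, w = ε w • (1 : D) + c w • e)
    (hd : ∀ x y, c (x * y) = ε x * c y + c x * ε y) (hc1 : c 1 = 0)
    {a φ : D ⊗[k] D} (hφ : IsUnit φ) (h : a * Algebra.TensorProduct.comm k D D φ = φ)
    (h1 : ax₁ ε a = 1) (h2 : ax₂ ε a = 1) : a = 1 := by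
  let l := ε.toLinearMap
  have hl : ∀ x, l x = ε x := fun x => rfl
  have hdec2 : ∀ z : D ⊗[k] D, z = coef l l z • (1 : D) ⊗ₜ[k] (1 : D) + coef c l z • e ⊗ₜ[k] (1 : D) +
      coef l c z • (1 : D) ⊗ₜ[k] e + coef c c z • e ⊗ₜ[k] e := fun z => by
    induction z using TensorProduct.induction_on with
    | zero => simp
    | tmul x y =>
      conv_lhs => rw [hdec x, hdec y]
      simp only [coef_tmul, hl, add_tmul, tmul_add, TensorProduct.smul_tmul_smul]
      abel
    | add a b ha hb =>
      conv_lhs => rw [ha, hb]
      simp only [map_add, add_smul]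
      abel
  have hmul : ∀ x y : D ⊗[k] D, coef c c (x * y) = coef c c x * coef l l y + coef l l x * coef c c y +
      coef c l x * coef l c y + coef l c x * coef c l y := fun x y => by
    induction x using TensorProduct.induction_on with
    | zero => simp
    | tmul a b =>
      induction y using TensorProduct.induction_on with
      | zero => simp
      | tmul a' b' =>
        simp only [Algebra.TensorProduct.tmul_mul_tmul, coef_tmul, hl, hd]
        ring
      | add y y' hy hy' => simp only [mul_add, map_add, hy, hy']; ring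
    | add x x' hx hx' => simp only [add_mul, map_add, hx, hx']; ring
  have e00 : coef l l a = 1 := by rw [← coef_ax₁, h1]; exact map_one ε
  have e10 : coef c l a = 0 := by rw [← coef_ax₁, h1, hc1]
  have e01 : coef l c a = 0 := by rw [← coef_ax₂, h2, hc1]
  have hu : IsUnit (coef l l φ) := by
    rw [← coef_ax₁]
    exact (hφ.map (ax₁ ε)).map ε
  have e' := congrArg (coef c c) h
  rw [hmul, coef_comm, coef_comm, coef_comm, coef_comm, e00, e10, e01] at e'
  have e11 : coef c c a = 0 := hu.mul_left_eq_zero.1 (by linear_combination e')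
  rw [hdec2 a, e00, e10, e01, e11]
  simp [Algebra.TensorProduct.one_def]

/-- The dual numbers satisfy the hypotheses. -/
theorem dual_eq_one_of_swap {k : Type u} [CommRing k] {a φ : DualNumber k ⊗[k] DualNumber k} (hφ : IsUnit φ)
    (h : a * Algebra.TensorProduct.comm k (DualNumber k) (DualNumber k) φ = φ)
    (h1 : ax₁ (TrivSqZeroExt.fstHom k k k) a = 1) (h2 : ax₂ (TrivSqZeroExt.fstHom k k k) a = 1) : a = 1 :=
  eq_one_of_swap (D := DualNumber k) (TrivSqZeroExt.fstHom k k k)
    { toFun := TrivSqZeroExt.snd
      map_add' := TrivSqZeroExt.snd_add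
      map_smul' := fun r x => TrivSqZeroExt.snd_smul r x }
    DualNumber.eps
    (fun w => by
      refine TrivSqZeroExt.ext ?_ ?_
      · show fst w = _
        simp
      · show snd w = _
        simp)
    (fun x y => by
      show snd (x * y) = fst x * snd y + snd x * fst y
      rw [TrivSqZeroExt.snd_mul, smul_eq_mul, op_smul_eq_mul])
    (TrivSqZeroExt.snd_one (R := k) (M := k)) hφ h h1 h2

/-- A finite local algebra other than the field has a tangent vector. -/
theorem exists_tangent {k : Type u} [Field k] [IsAlgClosed k] {C : Type v} [CommRing C] [Algebra k C] [Module.Finite k C]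
    (ε : C →ₐ[k] k) (huniq : ∀ g : C →ₐ[k] k, g = ε) (hne : ¬ Function.Injective ε) :
    ∃ g : C →ₐ[k] DualNumber k, (Algebra.ofId k (DualNumber k)).comp ((TrivSqZeroExt.fstHom k k k).comp g) ≠ g := by
  haveI : IsArtinianRing C := IsArtinianRing.of_finite k C
  haveI : IsNoetherianRing C := IsNoetherianRing.of_finite k C
  let m := RingHom.ker ε
  have hJ : m ≤ Ideal.jacobson ⊥ := by
    refine le_sInf fun J hJ => ?_
    haveI : J.IsMaximal := hJ.2
    haveI : Algebra.IsIntegral k (C ⧸ J) := Algebra.IsIntegral.of_finite k _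
    let e := AlgEquiv.ofBijective (Algebra.ofId k (C ⧸ J)) IsAlgClosed.algebraMap_bijective_of_isIntegral
    have := huniq ((e.symm : (C ⧸ J) →ₐ[k] k).comp (Ideal.Quotient.mkₐ k J))
    intro x hx
    have hx' := DFunLike.congr_fun this x
    rw [show ε x = 0 from hx] at hx'
    exact Ideal.Quotient.eq_zero_iff_mem.1 ((map_eq_zero_iff _ e.symm.injective).1 hx')
  have hm0 : m ≠ ⊥ := fun h => hne ((RingHom.injective_iff_ker_eq_bot ε).mpr h)
  obtain ⟨z, hzm, hz⟩ : ∃ z ∈ m, z ∉ m * m := by
    by_contra hcon
    push Not at hcon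
    exact hm0 (Submodule.eq_bot_of_le_smul_of_le_jacobson_bot m m (IsNoetherian.noetherian m)
      (fun z hz => by simpa [smul_eq_mul] using hcon z hz) hJ)
  have hz' : z ∉ Submodule.span k {(1 : C)} ⊔ (m * m).restrictScalars k := by
    intro hmem
    obtain ⟨b, hb, c, hc, rfl⟩ := Submodule.mem_sup.mp hmem
    obtain ⟨r, rfl⟩ := Submodule.mem_span_singleton.mp hb
    replace hc : c ∈ m * m := hc
    have hc' : ε c = 0 := Ideal.mul_le_right (I := m) (J := m) hc
    have h0 : ε (r • 1 + c) = 0 := hzm
    rw [map_add, map_smul, map_one, hc', add_zero, smul_eq_mul, _root_.mul_one] at h0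
    rw [h0, zero_smul, zero_add] at hz
    exact hz hc
  obtain ⟨f, hfz, hf⟩ := Submodule.exists_dual_map_eq_bot_of_notMem hz' inferInstance
  have hf' : ∀ w ∈ Submodule.span k {(1 : C)} ⊔ (m * m).restrictScalars k, f w = 0 := fun w hw => by
    have : f w ∈ (⊥ : Submodule k k) := hf ▸ ⟨w, hw, rfl⟩
    simpa using this
  have hf1 : f 1 = 0 := hf' 1 (Submodule.mem_sup_left (Submodule.mem_span_singleton_self 1))
  have hder : ∀ x y : C, f (x * y) = ε x * f y + f x * ε y := by
    intro x y
    have hmem : (x - ε x • 1) * (y - ε y • 1) ∈ m * m := Ideal.mul_mem_mul (by simp [m]) (by simp [m])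
    have h := hf' _ (Submodule.mem_sup_right hmem)
    rw [show (x - ε x • (1 : C)) * (y - ε y • 1) = x * y - ε x • y - ε y • x + (ε x * ε y) • 1 by
      simp only [Algebra.smul_def, map_mul]; ring] at h
    simp only [map_add, map_sub, map_smul, hf1, smul_eq_mul, mul_zero, add_zero] at h
    linear_combination h
  let g : C →ₐ[k] DualNumber k := AlgHom.ofLinearMap
    { toFun := fun x => TrivSqZeroExt.inl (ε x) + TrivSqZeroExt.inr (f x)
      map_add' := fun x y => by ext <;> simp
      map_smul' := fun r x => by ext <;> simp }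
    (by ext <;> simp [hf1]) (fun x y => by ext <;> simp [hder, mul_comm])
  refine ⟨g, fun h => hfz ?_⟩
  have := congrArg TrivSqZeroExt.snd (DFunLike.congr_fun h z)
  simp [g, TrivSqZeroExt.algebraMap_eq_inl, Algebra.ofId_apply] at this
  exact this.symm

end Groth.Agent.AVCentre
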