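import Mathlib.AlgebraicGeometry.Morphisms.FlatRank
import Mathlib.RingTheory.LocalRing.Module
import Mathlib.RingTheory.Artinian.Module

/-!
# The rank of a finite flat cover of a finite scheme over a field
-/

noncomputable section

set_option autoImplicit false
set_option linter.style.haveILetI false
set_option backward.isDefEq.respectTransparency false
set_option backward.isDefEq.respectTransparency.types false

universe u

open CategoryTheory CategoryTheory.Limits AlgebraicGeometry TensorProduct

namespace Groth.Agent.AVCentre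

/-- A finite flat algebra of constant rank over a finite algebra over a field. -/
theorem finrank_tower {k R R' : Type u} [Field k] [CommRing R] [CommRing R'] [Algebra k R] [Algebra R R']
    [Algebra k R'] [IsScalarTower k R R'] [Module.Finite k R] [Module.Finite R R'] [Module.Flat R R'] (d : ℕ)
    (hd : ∀ p : PrimeSpectrum R, Module.rankAtStalk R' p = d) :
    Module.finrank k R' = Module.finrank k R * d := by
  rcases subsingleton_or_nontrivial R with h | h
  · haveI : Subsingleton R' := Module.subsingleton R R'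
    rw [Module.finrank_zero_of_subsingleton, Module.finrank_zero_of_subsingleton, Nat.zero_mul]
  haveI : IsArtinianRing R := IsArtinianRing.of_finite k R
  haveI : Module.Free R R' := by
    refine Module.free_of_flat_of_finrank_eq R R' d fun P => ?_
    let := Ideal.Quotient.field P.1
    have e := Module.rankAtStalk_baseChange (R := R) (M := R') (S := R ⧸ P.1)
      (⊥ : PrimeSpectrum (R ⧸ P.1))
    rw [hd, Module.rankAtStalk_eq_finrank_of_free] at e
    exact e
  obtain ⟨p⟩ : Nonempty (PrimeSpectrum R) := inferInstance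
  have h1 : Module.finrank R R' = d := by
    rw [← hd p, Module.rankAtStalk_eq_finrank_of_free]
    rfl
  rw [← Module.finrank_mul_finrank k R R', h1]

/-- Ranks multiply along a finite flat cover of a finite scheme over a field. -/
theorem finrank_comp_field {k : Type u} [Field k] {X Y : Scheme.{u}} (p : X ⟶ Y) [IsFinite p] [Flat p]
    (h : Y ⟶ Spec (CommRingCat.of k)) [IsFinite h] (d : ℕ) (hd : ∀ y, p.finrank y = d)
    (s : ↥(Spec (CommRingCat.of k))) : (p ≫ h).finrank s = h.finrank s * d := by
  haveI : IsAffine Y := isAffine_of_isAffineHom h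
  haveI : IsAffine X := isAffine_of_isAffineHom p
  obtain ⟨ψ, hψ⟩ := Spec.map_surjective (Y.isoSpec.inv ≫ h)
  obtain ⟨φ, hφ⟩ := Spec.map_surjective (X.isoSpec.inv ≫ p ≫ Y.isoSpec.hom)
  have hh : h = Y.isoSpec.hom ≫ Spec.map ψ := by rw [hψ, Iso.hom_inv_id_assoc]
  have hp : p ≫ h = X.isoSpec.hom ≫ Spec.map (ψ ≫ φ) := by
    rw [Spec.map_comp, hψ, hφ, Category.assoc, Category.assoc, Iso.hom_inv_id_assoc, Iso.hom_inv_id_assoc]
  haveI : IsFinite (Spec.map φ) := by rw [hφ]; infer_instance
  haveI : Flat (Spec.map φ) := by rw [hφ]; infer_instance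
  haveI : IsFinite (Spec.map ψ) := by rw [hψ]; infer_instance
  haveI : IsFinite (Spec.map (ψ ≫ φ)) := by rw [Spec.map_comp]; infer_instance
  have hd' : ∀ y, (Spec.map φ).finrank y = d := fun y => by
    rw [hφ, Scheme.Hom.finrank_comp_left_of_isIso]
    have sq : IsPullback (𝟙 X) (p ≫ Y.isoSpec.hom) p Y.isoSpec.inv := IsPullback.of_horiz_isIso (by simp)
    rw [Scheme.Hom.finrank_of_isPullback _ _ _ _ sq y, hd]
  rw [hp, hh, Scheme.Hom.finrank_comp_left_of_isIso, Scheme.Hom.finrank_comp_left_of_isIso]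
  simp only [IsFinite.SpecMap_iff, Flat.SpecMap_iff] at *
  letI := ψ.hom.toAlgebra
  letI := φ.hom.toAlgebra
  letI := (ψ ≫ φ).hom.toAlgebra
  haveI : IsScalarTower k Γ(Y, ⊤) Γ(X, ⊤) := IsScalarTower.of_algebraMap_eq' (R := k) rfl
  rw [Scheme.Hom.finrank_SpecMap_eq_finrank ‹ψ.hom.Finite› (RingHom.Flat.of_isField (Field.toIsField k) _),
    Scheme.Hom.finrank_SpecMap_eq_finrank ‹(ψ ≫ φ).hom.Finite› (RingHom.Flat.of_isField (Field.toIsField k) _),
    ← RingHom.algebraMap_toAlgebra ψ.hom, ← RingHom.algebraMap_toAlgebra (ψ ≫ φ).hom,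
    RingHom.finrank_algebraMap, RingHom.finrank_algebraMap, Module.rankAtStalk_eq_finrank_of_free,
    Module.rankAtStalk_eq_finrank_of_free]
  haveI : Module.Finite k Γ(Y, ⊤) := ‹ψ.hom.Finite›
  haveI : Module.Finite Γ(Y, ⊤) Γ(X, ⊤) := ‹φ.hom.Finite›
  haveI : Module.Flat Γ(Y, ⊤) Γ(X, ⊤) := ‹φ.hom.Flat›
  refine finrank_tower d fun q => ?_
  have := hd' q
  rw [Scheme.Hom.finrank_SpecMap_eq_finrank ‹φ.hom.Finite› ‹φ.hom.Flat›, ← RingHom.algebraMap_toAlgebra φ.hom,
    RingHom.finrank_algebraMap] at this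
  exact this

end Groth.Agent.AVCentre
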