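import Groth.Agent.ThetaLib.IsotropicLift
import Groth.Agent.ThetaLib.Isotropic
import Groth.Agent.GrpSchLib.CoincidenceBase
import Groth.Agent.AVDualMake.KLGroup
import Groth.Agent.S19948

/-!
# The centre of the theta group is cut out by a closed subscheme of `K(L)`
-/

noncomputable section

set_option autoImplicit false
set_option linter.style.haveILetI false
set_option linter.unusedSectionVars false
set_option backward.isDefEq.respectTransparency false
set_option backward.isDefEq.respectTransparency.types false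
set_option maxHeartbeats 1000000

universe u

open CategoryTheory CategoryTheory.Limits MonoidalCategory CartesianMonoidalCategory MonObj AlgebraicGeometry
open scoped commutatorElement

namespace Groth.Agent.AVCentre

open Groth.Agent ThetaGrp

variable {k : Type u} [Field k] {A : Over (Spec (CommRingCat.of k))} [GrpObj A]
  {L : A.left.Modules}

/-- A lift over a finite scheme. -/
theorem exists_global_lift (hL : PicF.IsInvertible L) {N : Over (Spec (CommRingCat.of k))} [IsFinite N.hom]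
    (x : N ⟶ A) (hx : IsMumfordTriv A L x) : ∃ s : thetaPts A L N, ThetaLib.pt s = x := by
  haveI := ThetaLib.discreteTopology_of_isFinite N.left N.hom
  choose U hU δ₀ hδ₀ using fun z : N.left => ThetaLib.exists_local_lift hL x hx z
  let V : N.left → N.left.Opens := fun z => ⟨{z}, isOpen_discrete _⟩
  have hV : ∀ z, z ∈ V z := fun z => rfl
  have hVU : ∀ z, V z ≤ U z := fun z y hy => by
    obtain rfl : y = z := hy
    exact hU _
  let v : ∀ z, ThetaLib.sub (V z) ⟶ ThetaLib.sub (U z) := fun z =>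
    Over.homMk (N.left.homOfLE (hVU z)) (by simp)
  have hv : ∀ z, v z ≫ ThetaLib.incl (U z) = ThetaLib.incl (V z) := fun z =>
    Over.OverMorphism.ext (N.left.homOfLE_ι (hVU z))
  let β : ∀ z, thetaPts A L (ThetaLib.sub (V z)) := fun z => ThetaLib.bc (v z) (δ₀ z)
  haveI : ∀ z, IsOpenImmersion (ThetaLib.incl (V z)).left := fun z => inferInstanceAs (IsOpenImmersion (V z).ι)
  obtain ⟨s₀, hs₀⟩ := ThetaLib.pts_glue (A := A) (L := L) (T := N) (fun z => ThetaLib.incl (V z))
    (fun z => ⟨z, ⟨z, hV z⟩, rfl⟩) β fun z y W a a' h => by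
    by_cases hxy : z = y
    · subst hxy
      have : a = a' := Over.OverMorphism.ext ((cancel_mono (V z).ι).1 (congrArg CommaMorphism.left h))
      rw [this]
    · haveI : IsEmpty W.left := ⟨fun w => hxy (by
        have e : (a.left w).1 = (a'.left w).1 := congr($(congrArg CommaMorphism.left h) w)
        exact ((a.left w).2 : (a.left w).1 = z).symm.trans (e.trans ((a'.left w).2 : (a'.left w).1 = y)))⟩
      exact ThetaLib.pts_ext (fun _ : PEmpty.{u + 1} => 𝟙 W) (fun w => isEmptyElim w) fun e => e.elim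
  refine ⟨s₀, ?_⟩
  let 𝒰 : N.left.OpenCover := Scheme.Cover.mkOfCovers N.left (fun z => (V z).toScheme) (fun z => (V z).ι)
    (fun z => ⟨z, ⟨z, hV z⟩, rfl⟩)
  refine Over.OverMorphism.ext (Scheme.Cover.hom_ext 𝒰 _ _ fun z => ?_)
  have h := congrArg ThetaLib.pt (hs₀ z)
  rw [ThetaLib.pt_bc, ThetaLib.pt_bc, ThetaLib.isOverPt_iff.1 (hδ₀ z), ← Category.assoc, hv] at h
  exact congrArg CommaMorphism.left h

/-- The locus where a function on an affine scheme equals one. -/
theorem exists_closed_eq_one (P : Scheme.{u}) [IsAffine P] (a : Γ(P, ⊤)) :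
    ∃ (E : Scheme.{u}) (iE : E ⟶ P), IsClosedImmersion iE ∧
      ∀ (Q : Scheme.{u}) (q : Q ⟶ P), (∃ l, l ≫ iE = q) ↔ q.appTop a = 1 := by
  let I : Ideal Γ(P, ⊤) := Ideal.span {a - 1}
  let π : Γ(P, ⊤) ⟶ CommRingCat.of (Γ(P, ⊤) ⧸ I) := CommRingCat.ofHom (Ideal.Quotient.mk I)
  have hπ : π a = 1 := by
    show Ideal.Quotient.mk I a = 1
    rw [← map_one (Ideal.Quotient.mk I), Ideal.Quotient.eq]
    exact Ideal.subset_span rfl
  haveI : IsClosedImmersion (Spec.map π) := IsClosedImmersion.spec_of_surjective π Ideal.Quotient.mk_surjective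
  refine ⟨_, Spec.map π ≫ P.isoSpec.inv, inferInstance, fun Q q => ⟨?_, fun h => ?_⟩⟩
  · rintro ⟨l, rfl⟩
    rw [Scheme.Hom.comp_appTop, Scheme.Hom.comp_appTop, CommRingCat.comp_apply, CommRingCat.comp_apply]
    have h0 : P.isoSpec.inv.appTop = (Scheme.ΓSpecIso Γ(P, ⊤)).inv := by
      rw [← cancel_epi (Scheme.ΓSpecIso Γ(P, ⊤)).hom, Iso.hom_inv_id, ← Scheme.toSpecΓ_appTop,
        ← Scheme.Hom.comp_appTop]
      exact (congrArg Scheme.Hom.appTop (Iso.inv_hom_id P.isoSpec)).trans Scheme.Hom.id_appTop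
    rw [h0]
    have h1 := congrArg (fun f => f.hom a) (Scheme.ΓSpecIso_inv_naturality π)
    simp only [CommRingCat.hom_comp, RingHom.comp_apply] at h1
    erw [← h1, hπ, map_one, map_one]
  · have hI : ∀ r ∈ I, q.appTop.hom r = 0 := fun r hr => by
      refine (RingHom.mem_ker (f := q.appTop.hom)).1 (?_ : r ∈ RingHom.ker q.appTop.hom)
      exact Ideal.span_le.2 (Set.singleton_subset_iff.2 (by
        show q.appTop.hom (a - 1) = 0
        rw [map_sub, map_one]
        exact sub_eq_zero.2 h)) hr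
    let g : CommRingCat.of (Γ(P, ⊤) ⧸ I) ⟶ Γ(Q, ⊤) := CommRingCat.ofHom (Ideal.Quotient.lift I q.appTop.hom hI)
    refine ⟨Q.toSpecΓ ≫ Spec.map g, ?_⟩
    have hg : π ≫ g = q.appTop := CommRingCat.hom_ext (RingHom.ext fun r => Ideal.Quotient.lift_mk I _ hI)
    rw [Category.assoc, ← Spec.map_comp_assoc, hg, ← Scheme.toSpecΓ_naturality_assoc]
    exact (congrArg (q ≫ ·) (Iso.hom_inv_id P.isoSpec)).trans (Category.comp_id q)

variable [IsCommMonObj A]

/-- **The locus of the points of `K(L)` orthogonal to a finite family of points of `K(L)`.** -/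
theorem exists_perp_locus (hL : PicF.IsInvertible L) (hA : ThetaLib.GammaSnd A)
    {K : Over (Spec (CommRingCat.of k))} {i : K ⟶ A} (hK : IsKL A L i) [IsFinite K.hom]
    {P : Over (Spec (CommRingCat.of k))} [IsFinite P.hom] (t : P ⟶ K) :
    ∃ (Z : Over (Spec (CommRingCat.of k))) (j : Z ⟶ K), IsClosedImmersion j.left ∧
      ∀ (T : Over (Spec (CommRingCat.of k))) (y : T ⟶ K), (∃ z, z ≫ j = y) ↔ IsPerpPt L (t ≫ i) (y ≫ i) := by
  obtain ⟨s, hs⟩ := exists_global_lift hL i ((hK.univ K i).2 ⟨𝟙 K, Category.id_comp _⟩)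
  haveI : IsFinite (fst P K).left := inferInstanceAs (IsFinite (pullback.fst P.hom K.hom))
  haveI : IsAffine P.left := isAffine_of_isAffineHom P.hom
  haveI : IsAffine (P ⊗ K).left := isAffine_of_isAffineHom (fst P K).left
  let e : thetaPts A L (P ⊗ K) := ⁅ThetaLib.bc (snd P K) s, ThetaLib.bc (fst P K ≫ t) s⁆
  obtain ⟨a, ha⟩ := ThetaLib.exists_isScal hL hA e (ThetaLib.comm_overOne _ _)
  obtain ⟨E, iE, hiE, hfac⟩ := exists_closed_eq_one (P ⊗ K).left a
  haveI := hiE
  obtain ⟨Z, z, hz, hzfac⟩ := GrpSchLib.exists_weilRestriction (GrpSchLib.hasIdeals_field (W := P) (X := K) iE)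
  refine ⟨Over.mk (z ≫ K.hom), Over.homMk z rfl, hz, fun T y => ?_⟩
  have h1 : (∃ l : T ⟶ Over.mk (z ≫ K.hom), l ≫ Over.homMk z rfl = y) ↔ ∃ w, w ≫ z = y.left := by
    constructor
    · rintro ⟨w, hw⟩
      exact ⟨w.left, congrArg CommaMorphism.left hw⟩
    · rintro ⟨w, hw⟩
      exact ⟨Over.homMk w (by show w ≫ z ≫ K.hom = T.hom; rw [← Category.assoc, hw, Over.w y]),
        Over.OverMorphism.ext hw⟩
  have key : ∀ (T' : Over (Spec (CommRingCat.of k))) (g : T' ⟶ P ⊗ K),
      g.left.appTop a = 1 ↔ ThetaLib.bc g e = 1 := fun T' g => by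
    have hg := ThetaLib.isScal_bc hL g ha
    exact ⟨fun h => ThetaLib.eq_one_of_isScal (h ▸ hg),
      fun h => ThetaLib.isScal_unique hL hA hg (h ▸ ThetaLib.isScal_one)⟩
  rw [h1, hzfac, GrpSchLib.good_iff_whiskerLeft, hfac, key]
  have hbc : ∀ (T' : Over (Spec (CommRingCat.of k))) (g : T' ⟶ P ⊗ K),
      ThetaLib.bc g e = ⁅ThetaLib.bc (g ≫ snd P K) s, ThetaLib.bc (g ≫ fst P K ≫ t) s⁆ := fun T' g => by
    rw [show e = ⁅ThetaLib.bc (snd P K) s, ThetaLib.bc (fst P K ≫ t) s⁆ from rfl, ThetaLib.bc_comm,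
      ThetaLib.bc_comp, ThetaLib.bc_comp]
  constructor
  · intro h T' f y' β₁ β₂ hβ₁ hβ₂
    have h' := congrArg (ThetaLib.bc (lift y' f)) h
    rw [← MonoidHom.comp_apply, map_one] at h'
    have e1 : ThetaLib.bc (lift y' f) (ThetaLib.bc (P ◁ y) e) =
        ⁅ThetaLib.bc (f ≫ y) s, ThetaLib.bc (y' ≫ t) s⁆ := by
      rw [ThetaLib.bc_comp, hbc]
      simp
    rw [show ((ThetaLib.bc (lift y' f)).comp (ThetaLib.bc (P ◁ y))) e = _ from e1] at h'
    have h2 : ⁅β₁, β₂⁆ = 1 := by
      rw [ThetaLib.comm_congr₂ hL hA (β' := ThetaLib.bc (f ≫ y) s) (δ' := ThetaLib.bc (y' ≫ t) s)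
        (by rw [ThetaLib.isOverPt_iff.1 hβ₁, ThetaLib.pt_bc, hs, Category.assoc])
        (by rw [ThetaLib.isOverPt_iff.1 hβ₂, ThetaLib.pt_bc, hs, Category.assoc])]
      exact h'
    exact commutatorElement_eq_one_iff_mul_comm.1 h2
  · intro h
    rw [hbc, commutatorElement_eq_one_iff_mul_comm]
    simp only [whiskerLeft_snd, whiskerLeft_fst_assoc]
    exact h (P ⊗ T) (snd P T) (fst P T) _ _
      (ThetaLib.isOverPt_iff.2 (by rw [ThetaLib.pt_bc, hs, Category.assoc]))
      (ThetaLib.isOverPt_iff.2 (by rw [ThetaLib.pt_bc, hs, Category.assoc]))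

end Groth.Agent.AVCentre
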