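import Groth.Agent.AVCentre.SubGrp
import Groth.Agent.AVCentre.FinRank
import Groth.Agent.AVDualMake.RankKL
import Groth.Agent.S19949
import Groth.Agent.ThetaLib.KLExists

/-!
# The centre of the theta group of a non-degenerate module is trivial
-/

noncomputable section

set_option autoImplicit false
set_option linter.style.haveILetI false
set_option linter.unusedSectionVars false
set_option backward.isDefEq.respectTransparency false
set_option backward.isDefEq.respectTransparency.types false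
set_option maxHeartbeats 1000000

universe u

open CategoryTheory CategoryTheory.Limits MonoidalCategory CartesianMonoidalCategory MonObj AlgebraicGeometry
open scoped Groth.Agent.H23.PicMul

namespace Groth.Agent.AVCentre

open Groth.Agent ThetaGrp

section Transfer

variable {S : Scheme.{u}} {A : Over S} [GrpObj A] {L L' : A.left.Modules}

theorem isPerpPt_iso (φ : L' ≅ L) {H : Over S} {iH : H ⟶ A} {T : Over S} {x : T ⟶ A} (h : IsPerpPt L iH x) :
    IsPerpPt L' iH x := by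
  intro T' f y β₁ β₂ h₁ h₂
  have h' := h T' f y (ThetaLib.tr φ T' β₁) (ThetaLib.tr φ T' β₂)
    (ThetaLib.isOverPt_iff.2 ((ThetaLib.pt_tr φ β₁).trans (ThetaLib.isOverPt_iff.1 h₁)))
    (ThetaLib.isOverPt_iff.2 ((ThetaLib.pt_tr φ β₂).trans (ThetaLib.isOverPt_iff.1 h₂)))
  rw [← map_mul, ← map_mul] at h'
  have h'' := congrArg (fun β => β.1.hom) h'
  refine Subtype.ext (Iso.ext ?_)
  have key : ∀ β : thetaPts A L' T', (ThetaLib.tr φ T' β).1.hom =
      (ThetaLib.trObj φ T').inv ≫ β.1.hom ≫ (ThetaLib.trObj φ T').hom := fun β => rfl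
  simp only [key, cancel_epi, cancel_mono] at h''
  exact h''

theorem isKL_iso (φ : L' ≅ L) {K : Over S} {i : K ⟶ A} (h : IsKL A L i) : IsKL A L' i := by
  have hc : PicF.cl L' = PicF.cl L := H23.PicMul.cl_eq_iff.2 ⟨φ⟩
  refine ⟨h.closed, fun T z => Iff.trans (exists_congr fun N => and_congr_right fun _ => ?_) (h.univ T z)⟩
  rw [AgPol.IsLambdaSheaf, AgPol.IsLambdaSheaf, ← H23.PicMul.cl_eq_iff, ← H23.PicMul.cl_eq_iff,
    H23.PicMul.cl_tensor, H23.PicMul.cl_tensor, H23.PicMul.cl_tensor, H23.PicMul.cl_tensor]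
  show PicF.pullCl _ (PicF.cl N) * PicF.pullCl _ (PicF.cl L') * PicF.pullCl _ (PicF.cl L') =
      PicF.pullCl _ (PicF.cl L') ↔
    PicF.pullCl _ (PicF.cl N) * PicF.pullCl _ (PicF.cl L) * PicF.pullCl _ (PicF.cl L) =
      PicF.pullCl _ (PicF.cl L)
  rw [hc]

end Transfer

variable {k : Type u} [Field k] [IsAlgClosed k] {A : Over (Spec (CommRingCat.of k))} [GrpObj A] [IsCommMonObj A]
  [IsProper A.hom] [GeometricallyIntegral A.hom] {L : A.left.Modules}

/-- **The orthogonal of a finite family of points is a closed subgroup scheme of `K(L)`.** -/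
theorem exists_perp_subgroup (hL : PicF.IsInvertible L) (hA : ThetaLib.GammaSnd A)
    {K : Over (Spec (CommRingCat.of k))} {iK : K ⟶ A} (hK : IsKL A L iK) [IsFinite K.hom]
    {P : Over (Spec (CommRingCat.of k))} [IsFinite P.hom] (t : P ⟶ K) :
    ∃ (Z : Over (Spec (CommRingCat.of k))) (_ : GrpObj Z) (j : Z ⟶ K),
      IsMonHom (j ≫ iK) ∧ IsClosedImmersion (j ≫ iK).left ∧ IsFinite Z.hom ∧
        ∀ (T : Over (Spec (CommRingCat.of k))) (y : T ⟶ K),
          (∃ z, z ≫ j = y) ↔ IsPerpPt L (t ≫ iK) (y ≫ iK) := by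
  obtain ⟨Z, j, hjc, hZ⟩ := exists_perp_locus hL hA hK t
  letI := AVDualMake.klGrpObj hL hK
  haveI := AVDualMake.isMonHom_incl hL hK
  haveI := AVDualMake.mono_incl hK
  haveI := hjc
  haveI := hK.closed
  let iZ : Z ⟶ A := j ≫ iK
  haveI : IsClosedImmersion iZ.left := inferInstanceAs (IsClosedImmersion (j.left ≫ iK.left))
  haveI : Mono iZ := Over.mono_of_mono_left iZ
  have hZ' : ∀ (V : Over (Spec (CommRingCat.of k))) (a : V ⟶ Z), IsPerpPt L (t ≫ iK) (a ≫ iZ) := fun V a => by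
    rw [show a ≫ iZ = (a ≫ j) ≫ iK from (Category.assoc _ _ _).symm]
    exact (hZ V (a ≫ j)).1 ⟨a, rfl⟩
  have hlift : ∀ (V : Over (Spec (CommRingCat.of k))) (x : V ⟶ K), IsPerpPt L (t ≫ iK) (x ≫ iK) →
      ∃ z : V ⟶ Z, z ≫ iZ = x ≫ iK := fun V x hx => by
    obtain ⟨z, hz⟩ := (hZ V x).2 hx
    exact ⟨z, by rw [← hz, Category.assoc]⟩
  obtain ⟨s, hs⟩ := exists_global_lift hL iK ((hK.univ K iK).2 ⟨𝟙 K, Category.id_comp _⟩)
  have hpmul : ∀ {V : Over (Spec (CommRingCat.of k))} (x₁ x₂ : V ⟶ K), IsPerpPt L (t ≫ iK) (x₁ ≫ iK) →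
      IsPerpPt L (t ≫ iK) (x₂ ≫ iK) → IsPerpPt L (t ≫ iK) ((x₁ * x₂) ≫ iK) := by
    intro V x₁ x₂ p₁ p₂ T' f w β₁ β₂ h₁ h₂
    let δ₁ := ThetaLib.bc (f ≫ x₂) s * ThetaLib.bc (f ≫ x₁) s
    have hδ : ThetaLib.pt δ₁ = ThetaLib.pt β₁ := by
      rw [ThetaLib.isOverPt_iff.1 h₁, ThetaLib.pt_mul, ThetaLib.pt_bc, ThetaLib.pt_bc, hs, MonObj.mul_comp,
        MonObj.comp_mul, Category.assoc, Category.assoc]
    have c₁ := p₁ T' f w (ThetaLib.bc (f ≫ x₁) s) β₂
      (ThetaLib.isOverPt_iff.2 (by rw [ThetaLib.pt_bc, hs, Category.assoc])) h₂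
    have c₂ := p₂ T' f w (ThetaLib.bc (f ≫ x₂) s) β₂
      (ThetaLib.isOverPt_iff.2 (by rw [ThetaLib.pt_bc, hs, Category.assoc])) h₂
    have h := (show Commute δ₁ β₂ from Commute.mul_left c₂ c₁)
    rw [← commutatorElement_eq_one_iff_mul_comm, ThetaLib.comm_congr₂ hL hA hδ.symm rfl,
      commutatorElement_eq_one_iff_mul_comm]
    exact h.eq
  have hpinv : ∀ {V : Over (Spec (CommRingCat.of k))} (x : V ⟶ K), IsPerpPt L (t ≫ iK) (x ≫ iK) →
      IsPerpPt L (t ≫ iK) (x⁻¹ ≫ iK) := by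
    intro V x p T' f w β₁ β₂ h₁ h₂
    have hδ : ThetaLib.pt (ThetaLib.bc (f ≫ x) s)⁻¹ = ThetaLib.pt β₁ := by
      rw [ThetaLib.isOverPt_iff.1 h₁, ThetaLib.pt_inv, ThetaLib.pt_bc, hs, GrpObj.inv_comp, GrpObj.comp_inv,
        Category.assoc]
    have c := p T' f w (ThetaLib.bc (f ≫ x) s) β₂
      (ThetaLib.isOverPt_iff.2 (by rw [ThetaLib.pt_bc, hs, Category.assoc])) h₂
    have h := (show Commute (ThetaLib.bc (f ≫ x) s)⁻¹ β₂ from (show Commute _ _ from c).inv_left)
    rw [← commutatorElement_eq_one_iff_mul_comm, ThetaLib.comm_congr₂ hL hA hδ.symm rfl,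
      commutatorElement_eq_one_iff_mul_comm]
    exact h.eq
  have hp1 : ∀ V : Over (Spec (CommRingCat.of k)), IsPerpPt L (t ≫ iK) ((1 : V ⟶ K) ≫ iK) := by
    intro V T' f w β₁ β₂ h₁ h₂
    refine (ThetaLib.commute_of_overOne hL hA ?_ β₂).eq
    rw [MonObj.one_comp, MonObj.comp_one] at h₁
    exact h₁
  obtain ⟨gZ, hgZ⟩ := exists_grpObj_of_mono iZ
    (fun V => by
      obtain ⟨z, hz⟩ := hlift V 1 (hp1 V)
      exact ⟨z, hz.trans (MonObj.one_comp _)⟩)
    (fun V a b => by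
      obtain ⟨z, hz⟩ := hlift V ((a ≫ j) * (b ≫ j)) (hpmul _ _
        (by rw [Category.assoc]; exact hZ' V a) (by rw [Category.assoc]; exact hZ' V b))
      exact ⟨z, by rw [hz, MonObj.mul_comp, Category.assoc, Category.assoc]⟩)
    (fun V a => by
      obtain ⟨z, hz⟩ := hlift V (a ≫ j)⁻¹ (hpinv _ (by rw [Category.assoc]; exact hZ' V a))
      exact ⟨z, by rw [hz, GrpObj.inv_comp, Category.assoc]⟩)
  refine ⟨Z, gZ, j, hgZ, ‹IsClosedImmersion iZ.left›, ?_, hZ⟩
  rw [← Over.w j]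
  infer_instance

/-- **A point orthogonal to all of `K(L)` is trivial.** -/
theorem perp_KL_eq_one (hL : PicF.IsInvertible L)
    {K : Over (Spec (CommRingCat.of k))} {iK : K ⟶ A} (hK : IsKL A L iK) [IsFinite K.hom]
    {T : Over (Spec (CommRingCat.of k))} (y : T ⟶ K) (hy : IsPerpPt L iK (y ≫ iK)) : y ≫ iK = 1 := by
  have hA := ThetaLib.gammaSnd_of_abelian A
  obtain ⟨Z, gZ, j, hgZ, hcl, hZf, hZ0⟩ := exists_perp_subgroup hL hA hK (𝟙 K)
  simp only [Category.id_comp] at hZ0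
  have hZ := hZ0
  letI := AVDualMake.klGrpObj hL hK
  haveI := AVDualMake.isMonHom_incl hL hK
  haveI := AVDualMake.mono_incl hK
  haveI := hK.closed
  let iZ : Z ⟶ A := j ≫ iK
  haveI : IsClosedImmersion iZ.left := hcl
  haveI : IsClosedImmersion j.left := IsClosedImmersion.of_comp j.left iK.left
  haveI : Mono iZ := Over.mono_of_mono_left iZ
  have hZ' : ∀ (V : Over (Spec (CommRingCat.of k))) (a : V ⟶ Z), IsPerpPt L iK (a ≫ iZ) := fun V a => by
    rw [show a ≫ iZ = (a ≫ j) ≫ iK from (Category.assoc _ _ _).symm]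
    exact (hZ V (a ≫ j)).1 ⟨a, rfl⟩
  have hlift : ∀ (V : Over (Spec (CommRingCat.of k))) (x : V ⟶ K), IsPerpPt L iK (x ≫ iK) →
      ∃ z : V ⟶ Z, z ≫ iZ = x ≫ iK := fun V x hx => by
    obtain ⟨z, hz⟩ := (hZ V x).2 hx
    exact ⟨z, by rw [← hz, Category.assoc]⟩
  letI := gZ
  haveI := hgZ
  haveI : IsFinite Z.hom := by
    rw [← Over.w j]
    infer_instance
  obtain ⟨B, sB, f, hfm, hff, hfs, hflp, hBlft, -, hfk⟩ := GrpQuotLib.exists_quotientGrp iZ
    (fun T g n => ⟨n, mul_inv_eq_iff_eq_mul.2 (mul_comm _ _)⟩)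
  haveI := hfm
  haveI := hff
  haveI := hfs
  haveI := hflp
  haveI := hBlft
  haveI : IsSeparated B.hom := GrpSchLib.AntiAffine.isSeparated_grp B
  haveI : IsProper B.hom := Chevalley.BC.isProper_of_surjective f
  haveI : GeometricallyIntegral B.hom := AVQuotLib.geometricallyIntegral_of_flat_surjective f
  haveI : IsCommMonObj B := isCommMonObj_of_isProper_of_geometricallyIntegral B
  haveI : IsFinite f.left := AVField.isFinite_of_kernel f iZ hfk
  have hiso : IsIsotropic L iZ := fun V a b β₁ β₂ h₁ h₂ =>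
    hZ' V a V (𝟙 V) (b ≫ j) β₁ β₂ (by rwa [Category.id_comp])
      (by rwa [show (b ≫ j) ≫ iK = b ≫ iZ from Category.assoc _ _ _])
  obtain ⟨M, hM, ⟨φ⟩⟩ := (S19948.result k A B f hfs Z iZ hfk L hL K iK hK).2 ⟨⟨j, rfl⟩, hiso⟩
  obtain ⟨KM, iM, hKM⟩ := ThetaLib.exists_isKL B M hM
  haveI := hKM.closed
  haveI : Mono iM := Over.mono_of_mono_left iM
  have hK' := isKL_iso φ hK
  have h49 : ∀ (V : Over (Spec (CommRingCat.of k))) (x : V ⟶ A),
      (∃ z : V ⟶ KM, z ≫ iM = x ≫ f) ↔ ∃ z : V ⟶ K, z ≫ iK = x := fun V x => by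
    rw [S19949.result k A B f hfs Z iZ hfk M hM K iK hK' KM iM hKM V x]
    refine ⟨fun h => h.1, fun ⟨z, hz⟩ => ⟨⟨z, hz⟩, isPerpPt_iso φ fun T' g w β₁ β₂ h₁ h₂ => ?_⟩⟩
    exact (hZ' T' w T' (𝟙 T') (g ≫ z) β₂ β₁ (by rwa [Category.id_comp])
      (by rw [Category.assoc, hz]; exact h₁)).symm
  obtain ⟨p, hp⟩ := (h49 K iK).2 ⟨𝟙 K, Category.id_comp _⟩
  have sq : IsPullback iK p f iM := by
    refine ⟨⟨hp.symm⟩, ⟨PullbackCone.IsLimit.mk _ (fun c => ((h49 _ c.fst).1 ⟨c.snd, c.condition.symm⟩).choose)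
      (fun c => ((h49 _ c.fst).1 ⟨c.snd, c.condition.symm⟩).choose_spec) (fun c => ?_) (fun c m hm _ => ?_)⟩⟩
    · rw [← cancel_mono iM, Category.assoc, hp, ← Category.assoc,
        ((h49 _ c.fst).1 ⟨c.snd, c.condition.symm⟩).choose_spec]
      exact c.condition
    · rw [← cancel_mono iK, ((h49 _ c.fst).1 ⟨c.snd, c.condition.symm⟩).choose_spec, hm]
  have sqL : IsPullback iK.left p.left f.left iM.left := sq.map (Over.forget _)
  haveI : IsFinite p.left := MorphismProperty.of_isPullback (P := @IsFinite) sqL inferInstance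
  haveI : Flat p.left := MorphismProperty.of_isPullback (P := @Flat) sqL inferInstance
  haveI : Surjective p.left := MorphismProperty.of_isPullback (P := @Surjective) sqL inferInstance
  haveI : IsProper (iM.left ≫ B.hom) := inferInstance
  haveI : IsProper KM.hom := by rw [← Over.w iM]; infer_instance
  haveI : DiscreteTopology K.left := ThetaLib.discreteTopology_of_isFinite K.left K.hom
  haveI : CompactSpace K.left := QuasiCompact.compactSpace_of_compactSpace K.hom
  haveI : Finite K.left := finite_of_compact_of_discrete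
  haveI : Finite KM.left := Finite.of_surjective _ p.left.surjective
  haveI : IsFinite KM.hom := by
    rw [IsFinite.iff_isProper_and_locallyQuasiFinite]
    exact ⟨inferInstance, .of_finite_preimage_singleton KM.hom fun s => Set.toFinite _⟩
  haveI : IsIntegral A.left := GeometricallyIntegral.isIntegral_of_subsingleton A.hom
  haveI : IsIntegral B.left := GeometricallyIntegral.isIntegral_of_subsingleton B.hom
  obtain ⟨a0⟩ : Nonempty A.left := inferInstance
  let d := f.left.finrank (f.left a0)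
  have hd : ∀ b, f.left.finrank b = d := fun b => f.left.isLocallyConstant_finrank.apply_eq_of_preconnectedSpace _ _
  haveI : Subsingleton ↥(Spec (CommRingCat.of k)) := inferInstanceAs (Subsingleton (PrimeSpectrum k))
  let s₀ : ↥(Spec (CommRingCat.of k)) := IsLocalRing.closedPoint k
  have hr : ∀ s, KM.hom.finrank s = KM.hom.finrank s₀ := fun s => by rw [Subsingleton.elim s s₀]
  have h73 := (AVDualMake.finrank_KL_pullback f hfs d hd hM hKM hr hK').2 s₀
  have hcomp : K.hom.finrank s₀ = KM.hom.finrank s₀ * d := by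
    rw [← Over.w p]
    exact finrank_comp_field p.left KM.hom d (fun z => by
      rw [Scheme.Hom.finrank_of_isPullback _ _ _ _ sqL z, hd]) s₀
  have hpos : 1 ≤ K.hom.finrank s₀ := by
    obtain ⟨z, -⟩ := AVDualMake.exists_one_mem hL hK
    have h := Scheme.Hom.one_le_finrank_map K.hom (z.left s₀)
    rwa [Subsingleton.elim (K.hom (z.left s₀)) s₀] at h
  rw [hcomp] at h73 hpos
  have hd1 : d = 1 := by
    rcases Nat.eq_zero_or_pos (KM.hom.finrank s₀ * d) with h0 | h0
    · omega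
    · have h2 : d * (KM.hom.finrank s₀ * d) = 1 * (KM.hom.finrank s₀ * d) := by
        rw [_root_.one_mul]
        conv_rhs => rw [h73]
        ring
      exact Nat.eq_of_mul_eq_mul_right h0 h2
  haveI : IsIso f.left := by
    rw [Scheme.Hom.isIso_iff_finrank_eq]
    funext b
    rw [hd, hd1, Pi.one_apply]
  haveI : IsIso f := by
    haveI : IsIso ((Over.forget _).map f) := ‹IsIso f.left›
    exact isIso_of_reflects_iso f (Over.forget _)
  obtain ⟨z, hz⟩ := hlift T y hy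
  rw [← hz, ← cancel_mono f, MonObj.one_comp, Category.assoc, hfk.w, ← Category.assoc,
    toUnit_unique (z ≫ toUnit Z) (toUnit T), Hom.one_def]

end Groth.Agent.AVCentre
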