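import Groth.Agent.AVCentre.SelfPerp
import Groth.Agent.S19954

/-!
# Maximal totally isotropic subgroups of `K(L)`
-/

noncomputable section

set_option autoImplicit false
set_option linter.style.haveILetI false
set_option linter.unusedSectionVars false
set_option backward.isDefEq.respectTransparency false
set_option backward.isDefEq.respectTransparency.types false
set_option maxHeartbeats 2000000

universe u

open CategoryTheory CategoryTheory.Limits MonoidalCategory CartesianMonoidalCategory MonObj AlgebraicGeometry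

namespace Groth.Agent.AVCentre

open Groth.Agent ThetaGrp

variable {k : Type u} [Field k] [IsAlgClosed k] {A : Over (Spec (CommRingCat.of k))} [GrpObj A] [IsCommMonObj A]
  [IsProper A.hom] [GeometricallyIntegral A.hom] {L : A.left.Modules}

/-- A non-trivial finite `K(L)` contains a non-trivial isotropic subgroup. -/
theorem exists_isotropic (hL : PicF.IsInvertible L)
    {K : Over (Spec (CommRingCat.of k))} {iK : K ⟶ A} (hK : IsKL A L iK) [IsFinite K.hom] (hne : iK ≠ 1) :
    ∃ (G : Over (Spec (CommRingCat.of k))) (_ : GrpObj G) (j : G ⟶ K),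
      IsMonHom (j ≫ iK) ∧ IsClosedImmersion (j ≫ iK).left ∧ IsFinite G.hom ∧ IsIsotropic L (j ≫ iK) ∧
        j ≫ iK ≠ 1 := by
  have hA := ThetaLib.gammaSnd_of_abelian A
  obtain ⟨P, hP, t, htne, htt⟩ := exists_self_perp hL hK hne
  haveI := hP
  obtain ⟨Z₁, g₁, j₁, -, -, hf₁, h₁⟩ := exists_perp_subgroup hL hA hK t
  haveI := hf₁
  obtain ⟨Z₂, g₂, j₂, hm₂, hc₂, hf₂, h₂⟩ := exists_perp_subgroup hL hA hK j₁
  obtain ⟨a, ha⟩ := (h₁ P t).2 htt
  have hsub : ∀ (T : Over (Spec (CommRingCat.of k))) (x : T ⟶ A), IsPerpPt L (j₁ ≫ iK) x → IsPerpPt L (t ≫ iK) x :=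
    fun T x hx T' f y β₁ β₂ e₁ e₂ => hx T' f (y ≫ a) β₁ β₂ e₁
      (by rwa [Category.assoc, ← Category.assoc a, ha])
  have hZ : ∀ (T : Over (Spec (CommRingCat.of k))) (z : T ⟶ Z₂), IsPerpPt L (j₁ ≫ iK) (z ≫ j₂ ≫ iK) := fun T z => by
    rw [← Category.assoc]
    exact (h₂ T (z ≫ j₂)).1 ⟨z, rfl⟩
  obtain ⟨b, hb⟩ := (h₂ P t).2 (fun T' f y β₁ β₂ e₁ e₂ => by
    have h := (h₁ T' (y ≫ j₁)).1 ⟨y, rfl⟩
    exact (h T' (𝟙 T') f β₂ β₁ (by rwa [Category.id_comp, Category.assoc]) e₁).symm)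
  refine ⟨Z₂, g₂, j₂, hm₂, hc₂, hf₂, fun T x y β₁ β₂ e₁ e₂ => ?_, fun h => htne ?_⟩
  · obtain ⟨w, hw⟩ := (h₁ T (y ≫ j₂)).2 (by rw [Category.assoc]; exact hsub T _ (hZ T y))
    exact hZ T x T (𝟙 T) w β₁ β₂ (by rwa [Category.id_comp])
      (by rwa [← Category.assoc, hw, Category.assoc])
  · rw [← hb, Category.assoc, h, MonObj.comp_one]

/-- **A maximal totally isotropic subgroup is its own orthogonal, and has the square root order.** -/
theorem perp_eq_self_of_maximal (hL : PicF.IsInvertible L)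
    {K : Over (Spec (CommRingCat.of k))} {iK : K ⟶ A} (hK : IsKL A L iK) [IsFinite K.hom]
    {H : Over (Spec (CommRingCat.of k))} [GrpObj H] {iH : H ⟶ A} [IsMonHom iH] [IsClosedImmersion iH.left]
    (hHK : ∃ y : H ⟶ K, y ≫ iK = iH) (hiso : IsIsotropic L iH)
    (hmax : ∀ (H' : Over (Spec (CommRingCat.of k))) [GrpObj H'] (iH' : H' ⟶ A) [IsMonHom iH']
      [IsClosedImmersion iH'.left], (∃ y' : H' ⟶ K, y' ≫ iK = iH') → IsIsotropic L iH' →
      (∃ z : H ⟶ H', z ≫ iH' = iH) → ∃ z' : H' ⟶ H, z' ≫ iH = iH') :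
    (∀ (T : Over (Spec (CommRingCat.of k))) (x : T ⟶ A),
        ((∃ y : T ⟶ K, y ≫ iK = x) ∧ IsPerpPt L iH x) ↔ ∃ z : T ⟶ H, z ≫ iH = x) ∧
      IsFinite H.hom ∧
      ∀ s : ↥(Spec (CommRingCat.of k)), Scheme.Hom.finrank H.hom s ^ 2 = Scheme.Hom.finrank K.hom s := by
  have hA := ThetaLib.gammaSnd_of_abelian A
  obtain ⟨yH, hyH⟩ := hHK
  haveI := hK.closed
  haveI := AVDualMake.mono_incl hK
  haveI : IsClosedImmersion yH.left := by
    haveI : IsClosedImmersion (yH.left ≫ iK.left) := by rw [← Over.comp_left, hyH]; infer_instance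
    exact IsClosedImmersion.of_comp yH.left iK.left
  haveI hHf : IsFinite H.hom := by
    rw [← Over.w yH]
    infer_instance
  haveI : Mono iH := Over.mono_of_mono_left iH
  obtain ⟨B, sB, f, hfm, hff, hfs, hflp, hBlft, -, hfk⟩ := GrpQuotLib.exists_quotientGrp iH
    (fun T g n => ⟨n, mul_inv_eq_iff_eq_mul.2 (mul_comm _ _)⟩)
  haveI := hfm
  haveI := hff
  haveI := hfs
  haveI := hflp
  haveI := hBlft
  haveI : IsSeparated B.hom := GrpSchLib.AntiAffine.isSeparated_grp B
  haveI : IsProper B.hom := Chevalley.BC.isProper_of_surjective f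
  haveI : GeometricallyIntegral B.hom := AVQuotLib.geometricallyIntegral_of_flat_surjective f
  haveI : IsCommMonObj B := isCommMonObj_of_isProper_of_geometricallyIntegral B
  haveI : IsFinite f.left := AVField.isFinite_of_kernel f iH hfk
  obtain ⟨M, hM, ⟨φ⟩⟩ := (S19948.result k A B f hfs H iH hfk L hL K iK hK).2 ⟨⟨yH, hyH⟩, hiso⟩
  obtain ⟨KM, iM, hKM⟩ := ThetaLib.exists_isKL B M hM
  haveI := hKM.closed
  haveI : Mono iM := Over.mono_of_mono_left iM
  have hK' := isKL_iso φ hK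
  have h49 : ∀ (V : Over (Spec (CommRingCat.of k))) (x : V ⟶ A),
      (∃ z : V ⟶ KM, z ≫ iM = x ≫ f) ↔ (∃ z : V ⟶ K, z ≫ iK = x) ∧ IsPerpPt L iH x := fun V x => by
    rw [S19949.result k A B f hfs H iH hfk M hM K iK hK' KM iM hKM V x]
    exact ⟨fun h => ⟨h.1, isPerpPt_iso φ.symm h.2⟩, fun h => ⟨h.1, isPerpPt_iso φ h.2⟩⟩
  -- `H^⊥` covers `K(M)`
  obtain ⟨Z, gZ, j, hjm, hjc, hjf, hj⟩ := exists_perp_subgroup hL hA hK yH
  rw [hyH] at hj
  haveI := hjf
  haveI := hjc
  haveI : Mono (j ≫ iK) := Over.mono_of_mono_left (j ≫ iK)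
  obtain ⟨p, hp⟩ := (h49 Z (j ≫ iK)).2 ⟨⟨j, rfl⟩, (hj Z j).1 ⟨𝟙 Z, Category.id_comp _⟩⟩
  have hch : ∀ c : PullbackCone f iM, ∃ l : c.pt ⟶ Z, l ≫ j ≫ iK = c.fst := fun c => by
    obtain ⟨⟨y, hy⟩, hperp⟩ := (h49 _ c.fst).1 ⟨c.snd, c.condition.symm⟩
    obtain ⟨l, hl⟩ := (hj _ y).2 (hy.symm ▸ hperp)
    exact ⟨l, by rw [← Category.assoc, hl, hy]⟩
  have sq : IsPullback (j ≫ iK) p f iM := by
    refine ⟨⟨hp.symm⟩, ⟨PullbackCone.IsLimit.mk _ (fun c => (hch c).choose)
      (fun c => (hch c).choose_spec) (fun c => ?_) (fun c m hm _ => ?_)⟩⟩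
    · rw [← cancel_mono iM, Category.assoc, hp, ← Category.assoc, (hch c).choose_spec]
      exact c.condition
    · rw [← cancel_mono (j ≫ iK), (hch c).choose_spec, hm]
  have sqL : IsPullback (j ≫ iK).left p.left f.left iM.left := sq.map (Over.forget _)
  haveI : IsFinite p.left := MorphismProperty.of_isPullback (P := @IsFinite) sqL inferInstance
  haveI : Surjective p.left := MorphismProperty.of_isPullback (P := @Surjective) sqL inferInstance
  haveI : IsProper (iM.left ≫ B.hom) := inferInstance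
  haveI : IsProper KM.hom := by rw [← Over.w iM]; infer_instance
  haveI : DiscreteTopology Z.left := ThetaLib.discreteTopology_of_isFinite Z.left Z.hom
  haveI : CompactSpace Z.left := QuasiCompact.compactSpace_of_compactSpace Z.hom
  haveI : Finite Z.left := finite_of_compact_of_discrete
  haveI : Finite KM.left := Finite.of_surjective _ p.left.surjective
  haveI : IsFinite KM.hom := by
    rw [IsFinite.iff_isProper_and_locallyQuasiFinite]
    exact ⟨inferInstance, .of_finite_preimage_singleton KM.hom fun s => Set.toFinite _⟩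
  have hiM : iM = 1 := by
    by_contra hne
    obtain ⟨G, gG, jG, hGm, hGc, hGf, hGiso, hGne⟩ := exists_isotropic hM hKM hne
    haveI := hGm
    haveI := hGc
    haveI := hGf
    refine hGne ?_
    -- the preimage of `G`
    let W := pullback f (jG ≫ iM)
    let iW : W ⟶ A := pullback.fst f (jG ≫ iM)
    have sqW : IsPullback iW.left (pullback.snd f (jG ≫ iM)).left f.left (jG ≫ iM).left :=
      (IsPullback.of_hasPullback f (jG ≫ iM)).map (Over.forget _)
    haveI : IsClosedImmersion iW.left := MorphismProperty.of_isPullback (P := @IsClosedImmersion) sqW.flip inferInstance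
    haveI : Mono iW := Over.mono_of_mono_left iW
    have hmem : ∀ (T : Over (Spec (CommRingCat.of k))) (x : T ⟶ A),
        (∃ w : T ⟶ W, w ≫ iW = x) ↔ ∃ g : T ⟶ G, g ≫ jG ≫ iM = x ≫ f := fun T x => by
      constructor
      · rintro ⟨w, rfl⟩
        exact ⟨w ≫ pullback.snd f (jG ≫ iM), by rw [Category.assoc, Category.assoc, ← pullback.condition]⟩
      · rintro ⟨g, hg⟩
        exact ⟨pullback.lift x g hg.symm, pullback.lift_fst _ _ _⟩
    obtain ⟨gW, hgW⟩ := exists_grpObj_of_mono iW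
      (fun T => (hmem T 1).2 ⟨1, by rw [MonObj.one_comp, MonObj.one_comp]⟩)
      (fun T a b => (hmem T _).2 ⟨(a ≫ pullback.snd f (jG ≫ iM)) * (b ≫ pullback.snd f (jG ≫ iM)), by
        rw [MonObj.mul_comp, MonObj.mul_comp, Category.assoc, Category.assoc, Category.assoc, Category.assoc,
          ← pullback.condition]⟩)
      (fun T a => (hmem T _).2 ⟨(a ≫ pullback.snd f (jG ≫ iM))⁻¹, by
        rw [GrpObj.inv_comp, GrpObj.inv_comp, Category.assoc, Category.assoc, ← pullback.condition]⟩)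
    letI := gW
    haveI := hgW
    have hcond : iW ≫ f = pullback.snd f (jG ≫ iM) ≫ jG ≫ iM := pullback.condition
    have hWK := (h49 W iW).1 ⟨pullback.snd f (jG ≫ iM) ≫ jG, by rw [Category.assoc, ← hcond]⟩
    have hisoW : IsIsotropic L iW := by
      have h1 : IsIsotropic M (iW ≫ f) := fun T x y β₁ β₂ e₁ e₂ =>
        hGiso T (x ≫ pullback.snd f (jG ≫ iM)) (y ≫ pullback.snd f (jG ≫ iM)) β₁ β₂
          (by rw [Category.assoc, ← hcond]; exact e₁) (by rw [Category.assoc, ← hcond]; exact e₂)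
      have h2 := (S19954.result k A B f M hM KM iM hKM W iW
        ⟨pullback.snd f (jG ≫ iM) ≫ jG, by rw [Category.assoc, ← hcond]⟩).1 h1
      intro T x y β₁ β₂ e₁ e₂
      exact isPerpPt_iso φ.symm (fun T' g w δ₁ δ₂ d₁ d₂ => h2 T' (g ≫ x) w δ₁ δ₂ (by rwa [Category.assoc]) d₂)
        T (𝟙 T) y β₁ β₂ (by rwa [Category.id_comp]) e₂
    obtain ⟨z', hz'⟩ := hmax W iW hWK.1 hisoW ((hmem H iH).2 ⟨1, by
      rw [MonObj.one_comp, hfk.w, Hom.one_def]⟩)
    haveI : Surjective (pullback.snd f (jG ≫ iM)).left :=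
      MorphismProperty.of_isPullback (P := @Surjective) sqW inferInstance
    haveI : Flat (pullback.snd f (jG ≫ iM)).left :=
      MorphismProperty.of_isPullback (P := @Flat) sqW inferInstance
    haveI : IsFinite (pullback.snd f (jG ≫ iM)).left :=
      MorphismProperty.of_isPullback (P := @IsFinite) sqW inferInstance
    haveI : Epi (pullback.snd f (jG ≫ iM)).left := Flat.epi_of_flat_of_surjective _
    haveI : Epi (pullback.snd f (jG ≫ iM)) := Over.epi_of_epi_left _
    rw [← cancel_epi (pullback.snd f (jG ≫ iM)), ← hcond, ← hz', Category.assoc, hfk.w, MonObj.comp_one,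
      Hom.one_def, ← Category.assoc, toUnit_unique (z' ≫ toUnit H) (toUnit W)]
  refine ⟨fun T x => ⟨fun h => ?_, fun ⟨z, hz⟩ => ?_⟩, hHf, fun s => ?_⟩
  · obtain ⟨z, hz⟩ := (h49 T x).2 h
    rw [hiM, MonObj.comp_one] at hz
    refine ⟨hfk.lift x (toUnit T) ?_, hfk.lift_fst _ _ _⟩
    rw [← hz, Hom.one_def]
  · refine ⟨⟨z ≫ yH, by rw [Category.assoc, hyH, hz]⟩, fun T' g w β₁ β₂ e₁ e₂ => ?_⟩
    exact hiso T' (g ≫ z) w β₁ β₂ (by rwa [Category.assoc, hz]) e₂
  · haveI : Subsingleton ↥(Spec (CommRingCat.of k)) := inferInstanceAs (Subsingleton (PrimeSpectrum k))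
    obtain ⟨z₀, hz₀⟩ := AVDualMake.exists_one_mem hM hKM
    have hKM1 : ∀ s, Scheme.Hom.finrank KM.hom s = 1 := fun s => by
      have hid : toUnit KM ≫ z₀ = 𝟙 KM := by
        rw [← cancel_mono iM, Category.assoc, hz₀, hiM, MonObj.comp_one, MonObj.comp_one]
      have hid' : z₀ ≫ toUnit KM = 𝟙 _ := toUnit_unique _ _
      haveI : IsIso (toUnit KM) := ⟨z₀, hid, hid'⟩
      haveI : IsIso KM.hom := by
        rw [show KM.hom = (toUnit KM).left from (Over.toUnit_left).symm]
        exact inferInstanceAs (IsIso ((Over.forget _).map (toUnit KM)))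
      rw [Scheme.Hom.finrank_eq_one_of_isIso]
      rfl
    haveI : IsIntegral A.left := GeometricallyIntegral.isIntegral_of_subsingleton A.hom
    haveI : IsIntegral B.left := GeometricallyIntegral.isIntegral_of_subsingleton B.hom
    obtain ⟨a0⟩ : Nonempty A.left := inferInstance
    let d := f.left.finrank (f.left a0)
    have hd : ∀ b, f.left.finrank b = d :=
      fun b => f.left.isLocallyConstant_finrank.apply_eq_of_preconnectedSpace _ _
    have h73 := (AVDualMake.finrank_KL_pullback f hfs d hd hM hKM hKM1 hK').2 s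
    have hH : Scheme.Hom.finrank H.hom s = d := by
      have sqH : IsPullback iH.left (toUnit H).left f.left η[B].left :=
        (show IsPullback iH (toUnit H) f η[B] from hfk).map (Over.forget _)
      rw [show H.hom = (toUnit H).left from (Over.toUnit_left).symm, Scheme.Hom.finrank_of_isPullback _ _ _ _ sqH s, hd]
    rw [h73, hH, _root_.mul_one]

end Groth.Agent.AVCentre
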