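import Groth.Agent.AVCentre.Main
import Groth.Agent.AVCentre.Dual
import Groth.Agent.ThetaLib.CocycleSplit

/-!
# A non-trivial `K(L)` has a non-trivial point orthogonal to itself
-/

noncomputable section

set_option autoImplicit false
set_option linter.style.haveILetI false
set_option linter.unusedSectionVars false
set_option backward.isDefEq.respectTransparency false
set_option backward.isDefEq.respectTransparency.types false
set_option maxHeartbeats 2000000

universe u

open CategoryTheory CategoryTheory.Limits MonoidalCategory CartesianMonoidalCategory MonObj AlgebraicGeometry Opposite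
open scoped TensorProduct commutatorElement

namespace Groth.Agent.AVCentre

open Groth.Agent ThetaGrp ThetaLib

variable {k : Type u} [Field k] [IsAlgClosed k]

theorem scalPt_one' {S : Scheme.{u}} {A : Over S} [GrpObj A] {L : A.left.Modules} (hL : PicF.IsInvertible L)
    {T : Over S} : scalPt (A := A) hL (1 : (Γ(T.left, ⊤))ˣ) = 1 := by
  refine eq_one_of_isScal ?_
  have h := isScal_scalPt (A := A) hL (1 : (Γ(T.left, ⊤))ˣ)
  rwa [Units.val_one] at h

theorem aOb_hom_unique {T : Over (Spec (CommRingCat.of k))}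
    (f g : T ⟶ aOb (CommAlgCat.of (CommRingCat.of k) k)) : f = g := by
  haveI : IsIso (aOb (CommAlgCat.of (CommRingCat.of k) k)).hom := by
    rw [algSpec_obj_hom (X := op (CommAlgCat.of (CommRingCat.of k) k))]
    haveI : IsIso (CommRingCat.ofHom (algebraMap (CommRingCat.of k) k)) := by
      rw [show CommRingCat.ofHom (algebraMap (CommRingCat.of k) k) = 𝟙 (CommRingCat.of k) from rfl]
      infer_instance
    infer_instance
  exact Over.OverMorphism.ext ((cancel_mono (aOb (CommAlgCat.of (CommRingCat.of k) k)).hom).1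
    ((Over.w f).trans (Over.w g).symm))

variable {A : Over (Spec (CommRingCat.of k))} [GrpObj A] [IsCommMonObj A]
  [IsProper A.hom] [GeometricallyIntegral A.hom] {L : A.left.Modules}

/-- A morphism through the origin of a one-pointed scheme. -/
theorem aMap_const {K : Over (Spec (CommRingCat.of k))} [GrpObj K] (D : CommAlgCat.{u} (CommRingCat.of k))
    (ε : D →ₐ[CommRingCat.of k] CommRingCat.of k) (t : aOb D ⟶ K)
    (hall : ∀ q : aOb (CommAlgCat.of (CommRingCat.of k) k) ⟶ K, q = 1) :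
    aMap (R := D) (R' := D) ((Algebra.ofId (CommRingCat.of k) D).comp ε) ≫ t = 1 := by
  let Ck := CommAlgCat.of (CommRingCat.of k) k
  rw [← aMap_comp (R := D) (R' := Ck) (R'' := D) ε (Algebra.ofId (CommRingCat.of k) D), Category.assoc,
    hall (aMap (R := D) (R' := Ck) ε ≫ t), MonObj.comp_one]

/-- A point supported at the origin with symmetrical commutator is orthogonal to itself. -/
theorem perp_self_of_swap (hL : PicF.IsInvertible L)
    {K : Over (Spec (CommRingCat.of k))} {iK : K ⟶ A} (hK : IsKL A L iK) [IsFinite K.hom]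
    (D : CommAlgCat.{u} (CommRingCat.of k)) (ε : D →ₐ[CommRingCat.of k] CommRingCat.of k)
    (hswap : ∀ a φ : D ⊗[CommRingCat.of k] D, IsUnit φ →
      a * Algebra.TensorProduct.comm (CommRingCat.of k) D D φ = φ → ax₁ ε a = 1 → ax₂ ε a = 1 → a = 1)
    (t : aOb D ⟶ K)
    (hct : letI := AVDualMake.klGrpObj hL hK
      aMap (R := D) (R' := D) ((Algebra.ofId (CommRingCat.of k) D).comp ε) ≫ t = 1) :
    IsPerpPt L (t ≫ iK) (t ≫ iK) := by
  have hA := ThetaLib.gammaSnd_of_abelian A
  letI := AVDualMake.klGrpObj hL hK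
  haveI := AVDualMake.isMonHom_incl hL hK
  haveI := AVDualMake.mono_incl hK
  obtain ⟨s, hs⟩ := exists_global_lift hL iK ((hK.univ K iK).2 ⟨𝟙 K, Category.id_comp _⟩)
  let D₂ : CommAlgCat.{u} (CommRingCat.of k) := CommAlgCat.of (CommRingCat.of k) (D ⊗[CommRingCat.of k] D)
  let π₁ : aOb D₂ ⟶ aOb D := aMap (R := D) (R' := D₂) Algebra.TensorProduct.includeLeft
  let π₂ : aOb D₂ ⟶ aOb D := aMap (R := D) (R' := D₂) Algebra.TensorProduct.includeRight
  haveI : IsIso (lift π₁ π₂) := by
    let psi := pullbackSpecIso (CommRingCat.of k) D D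
    have h : (lift π₁ π₂).left = psi.inv := by
      refine pullback.hom_ext ?_ ?_
      · refine Eq.trans ?_ (pullbackSpecIso_inv_fst _ _ _).symm
        exact congrArg CommaMorphism.left (lift_fst π₁ π₂)
      · refine Eq.trans ?_ (pullbackSpecIso_inv_snd _ _ _).symm
        exact congrArg CommaMorphism.left (lift_snd π₁ π₂)
    haveI : IsIso ((Over.forget _).map (lift π₁ π₂)) := by
      show IsIso (lift π₁ π₂).left
      rw [h]
      exact psi.isIso_inv
    exact isIso_of_reflects_iso (lift π₁ π₂) (Over.forget _)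
  let u : thetaPts A L (aOb D) := bc t s
  have hu : pt u = t ≫ iK := by rw [show pt u = _ from pt_bc t s, hs]
  let U₁ := bc π₁ u
  let U₂ := bc π₂ u
  have hU : ⁅U₁, U₂⁆ = 1 := by
    obtain ⟨a₀, ha₀⟩ := exists_isScal hL hA ⁅U₁, U₂⁆ (comm_overOne _ _)
    let w := bc ((π₂ ≫ t) * (π₁ ≫ t)) s
    have hw : IsOverPt (U₁ * U₂ * w⁻¹) 1 := isOverPt_iff.2 (by
      simp only [U₁, U₂, w, pt_mul, pt_inv, pt_bc, hu, hs, MonObj.mul_comp, Category.assoc, inv_mul_cancel])
    obtain ⟨φ, hφ⟩ := exists_eq_scalPt hL hA _ hw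
    let σ : aOb D₂ ⟶ aOb D₂ :=
      aMap (R := D₂) (R' := D₂) (Algebra.TensorProduct.comm (CommRingCat.of k) D D).toAlgHom
    have hσ1 : σ ≫ π₁ = π₂ := (aMap_comp _ _).trans (congrArg (aMap (R := D) (R' := D₂)) (AlgHom.ext fun x => rfl))
    have hσ2 : σ ≫ π₂ = π₁ := (aMap_comp _ _).trans (congrArg (aMap (R := D) (R' := D₂)) (AlgHom.ext fun x => rfl))
    have hsw : U₂ * U₁ = scalPt hL (Units.map σ.left.appTop.hom.toMonoidHom φ) * w := by
      have h := congrArg (bc σ) (mul_inv_eq_iff_eq_mul.1 hφ)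
      simp only [map_mul, bc_scalPt, U₁, U₂, w, bc_comp, MonObj.comp_mul, hσ1, hσ2, ← Category.assoc] at h
      rw [show (π₁ ≫ t) * (π₂ ≫ t) = (π₂ ≫ t) * (π₁ ≫ t) by
        rw [← cancel_mono iK, MonObj.mul_comp, MonObj.mul_comp, mul_comm]] at h
      exact h
    have h12 : U₁ * U₂ = ⁅U₁, U₂⁆ * (U₂ * U₁) := by rw [commutatorElement_def]; group
    obtain ⟨a, ha⟩ := exists_eq_scalPt hL hA ⁅U₁, U₂⁆ (comm_overOne _ _)
    rw [mul_inv_eq_iff_eq_mul.1 hφ, hsw, ha, ← _root_.mul_assoc, ← scalPt_mul] at h12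
    have hval : φ = a * Units.map σ.left.appTop.hom.toMonoidHom φ := scalPt_injective hL hA (mul_right_cancel h12)
    suffices h : a = 1 by
      rw [ha, h]
      exact scalPt_one' hL
    have hax : ∀ r : D₂ →ₐ[CommRingCat.of k] D, (aMap r ≫ π₁ ≫ t = 1 ∨ aMap r ≫ π₂ ≫ t = 1) →
        r (fnR D₂ (a : Γ((aOb D₂).left, ⊤))) = 1 := fun r hr => by
      rw [← fnR_natural r]
      have h := congrArg (bc (aMap r)) ha
      rw [bc_comm, bc_scalPt] at h
      have hone : ⁅bc (aMap r) U₁, bc (aMap r) U₂⁆ = 1 := by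
        rw [commutatorElement_eq_one_iff_mul_comm]
        rcases hr with hr | hr
        · refine (commute_of_overOne hL hA (isOverPt_iff.2 ?_) _).eq
          simp only [U₁, pt_bc, hu]
          rw [← Category.assoc π₁, ← Category.assoc, hr, MonObj.one_comp]
        · refine (commute_of_overOne hL hA (isOverPt_iff.2 ?_) _).eq.symm
          simp only [U₂, pt_bc, hu]
          rw [← Category.assoc π₂, ← Category.assoc, hr, MonObj.one_comp]
      rw [hone] at h
      have h1 : Units.map (aMap r).left.appTop.hom.toMonoidHom a = 1 :=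
        scalPt_injective hL hA (h.symm.trans (scalPt_one' hL).symm)
      have h2 : (aMap r).left.appTop.hom (a : Γ((aOb D₂).left, ⊤)) = 1 := congrArg Units.val h1
      erw [h2, map_one]
    refine Units.ext ((fnR_bijective D₂).1 ?_)
    rw [Units.val_one, map_one]
    refine hswap _ (fnR D₂ (φ : Γ((aOb D₂).left, ⊤)))
      ((φ.isUnit).map (fnR D₂)) ?_ (hax _ (Or.inr ?_)) (hax _ (Or.inl ?_))
    · have h := congrArg (fun v => fnR D₂ (Units.val v)) hval
      simp only [Units.val_mul, map_mul] at h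
      refine Eq.trans ?_ h.symm
      congr 1
      exact (fnR_natural (R := D₂) (R' := D₂) (Algebra.TensorProduct.comm (CommRingCat.of k) D D).toAlgHom _).symm
    · rw [← Category.assoc, aMap_comp, ← hct]
      congr 2
      exact AlgHom.ext fun x => by
        refine Eq.trans (Algebra.TensorProduct.productMap_apply_tmul _ _ 1 x) ?_
        exact _root_.one_mul _
    · rw [← Category.assoc, aMap_comp, ← hct]
      congr 2
      exact AlgHom.ext fun x => by
        refine Eq.trans (Algebra.TensorProduct.productMap_apply_tmul _ _ x 1) ?_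
        exact _root_.mul_one _
  intro T' f y β₁ β₂ h₁ h₂
  let v : T' ⟶ aOb D₂ := lift f y ≫ inv (lift π₁ π₂)
  have hv1 : v ≫ π₁ = f := by
    rw [← lift_fst π₁ π₂, Category.assoc, IsIso.inv_hom_id_assoc, lift_fst]
  have hv2 : v ≫ π₂ = y := by
    rw [← lift_snd π₁ π₂, Category.assoc, IsIso.inv_hom_id_assoc, lift_snd]
  rw [← commutatorElement_eq_one_iff_mul_comm,
    comm_congr₂ hL hA (β' := bc v U₁) (δ' := bc v U₂)
      (by rw [isOverPt_iff.1 h₁, pt_bc, show pt U₁ = _ from pt_bc π₁ u, hu, ← Category.assoc v, hv1])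
      (by rw [isOverPt_iff.1 h₂, pt_bc, show pt U₂ = _ from pt_bc π₂ u, hu, ← Category.assoc v, hv2]),
    ← bc_comm, hU, map_one]


/-- **A non-trivial finite `K(L)` contains a non-trivial self-orthogonal point.** -/
theorem exists_self_perp (hL : PicF.IsInvertible L)
    {K : Over (Spec (CommRingCat.of k))} {iK : K ⟶ A} (hK : IsKL A L iK) [IsFinite K.hom] (hne : iK ≠ 1) :
    ∃ (P : Over (Spec (CommRingCat.of k))) (_ : IsFinite P.hom) (t : P ⟶ K),
      t ≫ iK ≠ 1 ∧ IsPerpPt L (t ≫ iK) (t ≫ iK) := by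
  have hA := ThetaLib.gammaSnd_of_abelian A
  letI := AVDualMake.klGrpObj hL hK
  haveI := AVDualMake.isMonHom_incl hL hK
  haveI := AVDualMake.mono_incl hK
  haveI : IsAlgClosed (CommRingCat.of k) := ‹IsAlgClosed k›
  obtain ⟨s, hs⟩ := exists_global_lift hL iK ((hK.univ K iK).2 ⟨𝟙 K, Category.id_comp _⟩)
  let Ck := CommAlgCat.of (CommRingCat.of k) k
  have hfin : ∀ (R : CommAlgCat.{u} (CommRingCat.of k)) [Module.Finite (CommRingCat.of k) R], IsFinite (aOb R).hom := by
    intro R _
    rw [algSpec_obj_hom (X := op R), IsFinite.SpecMap_iff]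
    exact RingHom.finite_algebraMap.2 inferInstance
  by_cases hq : ∃ q : aOb Ck ⟶ K, q ≫ iK ≠ 1
  · obtain ⟨q, hq⟩ := hq
    haveI : Module.Finite (CommRingCat.of k) Ck := Module.Finite.self _
    refine ⟨_, hfin Ck, q, hq, fun T' f y β₁ β₂ h₁ h₂ => ?_⟩
    rw [← commutatorElement_eq_one_iff_mul_comm,
      comm_congr₂ hL hA (β' := β₁) (δ' := β₁) rfl
        (by rw [isOverPt_iff.1 h₁, isOverPt_iff.1 h₂, aOb_hom_unique f y]), commutatorElement_self]
  push Not at hq
  haveI : IsAffine K.left := isAffine_of_isAffineHom K.hom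
  obtain ⟨⟨C⟩, ⟨e⟩⟩ := (essImage_algSpec (R := CommRingCat.of k) (G := K)).2 inferInstance
  haveI : IsFinite (aOb C).hom := by
    rw [← Over.w e.hom]
    haveI : IsIso e.hom.left := ((Over.forget _).mapIso e).isIso_hom
    infer_instance
  haveI hCfin : Module.Finite (CommRingCat.of k) C := by
    have h : IsFinite (Spec.map (CommRingCat.ofHom (algebraMap (CommRingCat.of k) C))) := by
      rwa [← algSpec_obj_hom (X := op C)]
    exact RingHom.finite_algebraMap.1 ((IsFinite.SpecMap_iff _).1 h)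
  have Pinj : ∀ {R : CommAlgCat.{u} (CommRingCat.of k)} {g g' : C →ₐ[CommRingCat.of k] R},
      aMap g ≫ e.hom = aMap g' ≫ e.hom → g = g' := fun {R g g'} h =>
    congrArg (fun z => z.unop.hom)
      ((algSpec.fullyFaithful (R := CommRingCat.of k)).map_injective ((cancel_mono e.hom).1 h : aMap g = aMap g'))
  -- the one point
  obtain ⟨y₀, hy₀⟩ : ∃ y₀ : aOb Ck ⟶ K, y₀ = 1 := ⟨1, rfl⟩
  obtain ⟨ε, hε⟩ : ∃ ε : C →ₐ[CommRingCat.of k] Ck, aMap ε ≫ e.hom = 1 := by
    let ff := algSpec.fullyFaithful (R := CommRingCat.of k)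
    exact ⟨(ff.preimage (y₀ ≫ e.inv)).unop.hom, by
      show (algSpec (CommRingCat.of k)).map (ff.preimage (y₀ ≫ e.inv)) ≫ e.hom = 1
      rw [ff.map_preimage, Category.assoc, Iso.inv_hom_id, Category.comp_id, hy₀]⟩
  have hall : ∀ q : aOb Ck ⟶ K, q = 1 := fun q => by
    rw [← cancel_mono iK, hq q, MonObj.one_comp]
  have huniq : ∀ g : C →ₐ[CommRingCat.of k] Ck, g = ε := fun g => Pinj ((hall _).trans hε.symm)
  have hni : ¬ Function.Injective ε := fun hinj => by
    refine hne ?_
    have hid : (Algebra.ofId (CommRingCat.of k) C).comp ε = AlgHom.id _ C := AlgHom.ext fun x => hinj (by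
      show ε (algebraMap _ C (ε x)) = ε x
      rw [AlgHom.commutes]
      rfl)
    have h1 : aMap (AlgHom.id (CommRingCat.of k) C) = 𝟙 (aOb C) := (algSpec (CommRingCat.of k)).map_id _
    rw [← hid, ← aMap_comp (R' := Ck) ε (Algebra.ofId (CommRingCat.of k) C)] at h1
    calc iK = e.inv ≫ (𝟙 (aOb C) ≫ e.hom) ≫ iK := by simp
      _ = e.inv ≫ (aMap (R := Ck) (Algebra.ofId (CommRingCat.of k) C) ≫ aMap ε ≫ e.hom) ≫ iK := by
        rw [← h1, Category.assoc (aMap _) (aMap _)]
      _ = 1 := by rw [hε, MonObj.comp_one, MonObj.one_comp, MonObj.comp_one]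
  let D : CommAlgCat.{u} (CommRingCat.of k) := CommAlgCat.of (CommRingCat.of k) (DualNumber (CommRingCat.of k))
  obtain ⟨g, hg⟩ := exists_tangent (k := CommRingCat.of k) ε huniq hni
  let c : D →ₐ[CommRingCat.of k] D :=
    (Algebra.ofId (CommRingCat.of k) D).comp (TrivSqZeroExt.fstHom (CommRingCat.of k) (CommRingCat.of k) (CommRingCat.of k))
  let t : aOb D ⟶ K := aMap (R' := D) g ≫ e.hom
  have hct : aMap c ≫ t = 1 := by
    exact aMap_const D _ t hall
  have htne : t ≫ iK ≠ 1 := fun h => by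
    have ht : t = 1 := by rw [← cancel_mono iK, h, MonObj.one_comp]
    refine hg (Pinj (R := D) ?_)
    show aMap (R' := D) (c.comp g) ≫ e.hom = t
    rw [← aMap_comp, Category.assoc]
    exact hct.trans ht.symm
  haveI : Module.Finite (CommRingCat.of k) (DualNumber (CommRingCat.of k)) :=
    inferInstanceAs (Module.Finite (CommRingCat.of k) (CommRingCat.of k × CommRingCat.of k))
  haveI : Module.Finite (CommRingCat.of k) D := ‹Module.Finite (CommRingCat.of k) (DualNumber (CommRingCat.of k))›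
  exact ⟨aOb D, hfin D, t, htne, perp_self_of_swap hL hK D _ (fun a φ h1 h2 h3 h4 => dual_eq_one_of_swap h1 h2 h3 h4) t hct⟩

end Groth.Agent.AVCentre
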