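import Groth.Agent.AVCentre.Locus

/-!
# The centre as a subgroup scheme
-/

noncomputable section

set_option autoImplicit false
set_option linter.style.haveILetI false
set_option linter.unusedSectionVars false
set_option backward.isDefEq.respectTransparency false
set_option backward.isDefEq.respectTransparency.types false

universe u

open CategoryTheory CategoryTheory.Limits MonoidalCategory CartesianMonoidalCategory MonObj AlgebraicGeometry Opposite

namespace Groth.Agent.AVCentre

variable {S : Scheme.{u}} {A : Over S} [GrpObj A]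

/-- A monomorphism whose points form subgroups is a subgroup scheme. -/
theorem exists_grpObj_of_mono {Z : Over S} (j : Z ⟶ A) [Mono j] (h1 : ∀ T : Over S, ∃ z : T ⟶ Z, z ≫ j = 1)
    (hmul : ∀ (T : Over S) (a b : T ⟶ Z), ∃ c : T ⟶ Z, c ≫ j = (a ≫ j) * (b ≫ j))
    (hinv : ∀ (T : Over S) (a : T ⟶ Z), ∃ c : T ⟶ Z, c ≫ j = (a ≫ j)⁻¹) :
    ∃ (g : GrpObj Z), letI := g; IsMonHom j := by
  let sub : ∀ T : Over S, Subgroup (T ⟶ A) := fun T =>
    { carrier := {x | ∃ z : T ⟶ Z, z ≫ j = x}
      one_mem' := h1 T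
      mul_mem' := by
        rintro _ _ ⟨a, rfl⟩ ⟨b, rfl⟩
        exact hmul T a b
      inv_mem' := by
        rintro _ ⟨a, rfl⟩
        exact hinv T a }
  let F : (Over S)ᵒᵖ ⥤ GrpCat.{u} :=
    { obj := fun T => GrpCat.of (sub T.unop)
      map := fun f => GrpCat.ofHom
        { toFun := fun g => ⟨f.unop ≫ g.1, by
            obtain ⟨y, hy⟩ := g.2
            exact ⟨f.unop ≫ y, by rw [Category.assoc, hy]⟩⟩
          map_one' := Subtype.ext (MonObj.comp_one _)
          map_mul' := fun g g' => Subtype.ext (MonObj.comp_mul _ _ _) }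
      map_id := fun T => GrpCat.hom_ext (MonoidHom.ext fun g => Subtype.ext (Category.id_comp _))
      map_comp := fun f g => GrpCat.hom_ext (MonoidHom.ext fun x => Subtype.ext (Category.assoc _ _ _)) }
  let R : (F ⋙ forget _).RepresentableBy Z :=
    { homEquiv := fun {T} => Equiv.ofBijective (fun y : T ⟶ Z => (⟨y ≫ j, ⟨y, rfl⟩⟩ : sub T))
        ⟨fun y y' h => (cancel_mono j).1 (congrArg Subtype.val h), fun ⟨x, y, hy⟩ => ⟨y, Subtype.ext hy⟩⟩
      homEquiv_comp := fun f g => Subtype.ext (Category.assoc _ _ _) }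
  let g : GrpObj Z := GrpObj.ofRepresentableBy _ F R
  refine ⟨g, ?_⟩
  letI := g
  refine ⟨?_, ?_⟩
  · have e : R.homEquiv η[Z] = (1 : sub _) := Equiv.apply_symm_apply _ _
    refine (congrArg Subtype.val e).trans ?_
    show (1 : 𝟙_ (Over S) ⟶ A) = η[A]
    rw [Hom.one_def, toUnit_unique (toUnit _) (𝟙 _), Category.id_comp]
  · have e : R.homEquiv μ[Z] = (R.homEquiv (fst Z Z) * R.homEquiv (snd Z Z) : sub _) :=
      Equiv.apply_symm_apply _ _
    refine (congrArg Subtype.val e).trans ?_
    show (fst Z Z ≫ j) * (snd Z Z ≫ j) = (j ⊗ₘ j) ≫ μ[A]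
    rw [Hom.mul_def]
    congr 1

end Groth.Agent.AVCentre
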